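import Cfsg.Agent.Lib.FusionCert.Main

/-! Certificate data for the 2-fusion system of M11. -/
set_option autoImplicit false

namespace CfsgLib.FusionCert.Mathieu

def m11Elems0 : List ℕ :=
  [984818244535754528103549039458486304, 965346966670364367458681901213092896,
    721269307624408231295626002150536224, 719971591174101102975802272131762208,
    970499966350631336865513127433832480, 969202056781860934635753244362607648,
    716116665689140382005577299019772960, 735587421144309950099182594919155744,
    879751195998581591598133589983924256, 891433896116670714362000325138850848,
    850958251958673994873477407111852064, 856149948416855456107719309401659424,
    838212692413955802609225934956605472, 849895960746010163520886011790235680,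
    892496155123587081696410095002461216, 897688484168543082887175640668475424]

/-- The certificate for M11. -/
def m11Cert : SimpleCert where
  hs := [965346966670364367458681901213092896, 721269307624408231295626002150536224,
    970499966350631336865513127433832480, 879751195998581591598133589983924256]
  L := m11Elems0
  m := 2
  sqExpr := [(0, 2), (0, 14)]
  keys := [[2400048, 2400064, 2400096],
    [400032, 800048, 2400048, 2400064, 2400096]]
  W := [16, 16, 2, 2, 2, 2, 2, 2, 8, 2, 2, 2,
    2, 2, 2, 2, 8, 4, 2, 2, 4, 4, 2, 4]
  z := 1
  conjs := [944520564259769601152993851320057984, 974264678267039405166887216647382592,
    840735798521748337912373881810783488]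
  slp := [(true, 1, 0, 7), (true, 1, 1, 5), (false, 7, 5, 2), (true, 2, 2, 9), (false, 1, 5, 4),
    (false, 1, 9, 8)]

/-- Elements of M₁₂ moving the point 0 to each point of the dodecad. -/
def m12Trans : List ℕ :=
  [984818244535754528103549039458486304, 726201143127125977099130009460749505,
    430480482670434116231605770997216450, 604565847268839466573182240333111491,
    962170417251635847789353618738589796, 608415656260656582790915385882903622,
    962750658528377623744627033403172360, 237033207884780857204317962146742537,
    235261500590440413514324901037647436, 733644797983679863350163561107277837,
    648159463152412767906890906770637840, 595358884094863066103662814304838706]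

end CfsgLib.FusionCert.Mathieu
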