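import Cfsg.Agent.Lib.FusionCert.Mathieu.Common
import Cfsg.Agent.Lib.FusionCert.Mathieu.M11Data

/-! The 2-fusion system of M11 is simple. -/
set_option autoImplicit false

namespace CfsgLib.FusionCert.Mathieu

open Cfsg

theorem m11_check : m11Cert.check = true := by
  decide +kernel

theorem m11_length : m11Cert.hs.length = 4 := rfl

theorem m11_mem : ∀ c ∈ m11Cert.hs ++ m11Cert.conjs, ∃ g : Spor.M11, code (repr Spor.M11 g) = c :=
  exists_code_of_memCheck (extra := fun _ c8 => fixesSquares c8 && fixes 0 c8)
    (fun _ _ hσ hp he => Subgroup.mem_inf.2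
      ⟨Subgroup.mem_inf.2 ⟨hσ, fixesSquares_spec hp (Bool.and_eq_true_iff.1 he).1⟩,
        fixes_spec (p := some 0) hp (Bool.and_eq_true_iff.1 he).2⟩)
    (by decide +kernel)

theorem card_M11 : Nat.card Spor.M11 = 7920 :=
  card_M11_of_trans (l := m12Trans) (by decide +kernel) (by decide +kernel)

theorem m11_isSimple (S : Sylow 2 Spor.M11) :
    (groupFusionSystem (S : Subgroup Spor.M11)).IsSimple 2 := by
  refine SimpleCert.isSimple m11Cert (repr Spor.M11) (repr_injective Spor.M11) m11_check m11_mem
    (o := 495) ?_ (by norm_num) (by rw [m11_length]; norm_num) S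
  rw [m11_length, card_M11]
  norm_num

end CfsgLib.FusionCert.Mathieu
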