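import Cfsg.Agent.Lib.FusionCert.Mathieu.M11
import Cfsg.Agent.Lib.Schur.Trivial

/-!
The Schur multiplier of M11 is trivial.
-/

set_option autoImplicit false

namespace CfsgLib.FusionCert.Mathieu

open Cfsg
open scoped commutatorElement

/-- generators of Sylow subgroups of M11, and an element swapping the two generators for the prime 3 -/
def m11SchurGens : List ℕ :=
  [233950865888990746377447415904013344, 735500604421669808992593446508235808,
    487607080158395075740321133224921120, 487655643029606470073469406179395616,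
    984355386066803413838770983050249280]

theorem m11SchurGens_mem : ∀ c ∈ m11SchurGens, ∃ g : Spor.M11, code (repr Spor.M11 g) = c :=
  exists_code_of_memCheck (extra := fun _ c8 => fixesSquares c8 && fixes 0 c8)
    (fun _ _ hσ hp he => Subgroup.mem_inf.2
      ⟨Subgroup.mem_inf.2 ⟨hσ, fixesSquares_spec hp (Bool.and_eq_true_iff.1 he).1⟩,
        fixes_spec (p := some 0) hp (Bool.and_eq_true_iff.1 he).2⟩)
    (by decide +kernel)

/-- code of an element of M11 -/
def mcode (g : Spor.M11) : ℕ := code (repr Spor.M11 g)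

theorem mcode_inj : Function.Injective mcode :=
  code_injective.comp (repr_injective Spor.M11)

theorem mcode_mul (g h : Spor.M11) : mcode (g * h) = mulC (mcode g) (mcode h) := by
  rw [mcode, map_mul, code_mul]; rfl

theorem mcode_one : mcode 1 = idC := by rw [mcode, map_one, code_one]

/-- code of a power -/
def powC (c : ℕ) : ℕ → ℕ
  | 0 => idC
  | n + 1 => mulC (powC c n) c

theorem mcode_pow (g : Spor.M11) : ∀ n, mcode (g ^ n) = powC (mcode g) n
  | 0 => by rw [pow_zero, mcode_one]; rfl
  | n + 1 => by rw [pow_succ, mcode_mul, mcode_pow g n]; rfl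

/-- codes of `a ^ i * b ^ j` -/
def twoGenL (a b n k : ℕ) : List ℕ :=
  (List.range n).flatMap fun i => (List.range k).map fun j => mulC (powC a i) (powC b j)

theorem exists_sylow_twoGen {p n k e : ℕ} [Fact p.Prime] (g h : Spor.M11)
    (hmul : (twoGenL (mcode g) (mcode h) n k).all (fun x => (twoGenL (mcode g) (mcode h) n k).all
      fun y => (twoGenL (mcode g) (mcode h) n k).contains (mulC x y)) = true)
    (hnd : (twoGenL (mcode g) (mcode h) n k).Nodup)
    (hid : idC ∈ twoGenL (mcode g) (mcode h) n k)
    (hlen : (twoGenL (mcode g) (mcode h) n k).length = p ^ e)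
    (hfac : Nat.factorization 7920 p = e)
    (hg : mcode g ∈ twoGenL (mcode g) (mcode h) n k) (hh : mcode h ∈ twoGenL (mcode g) (mcode h) n k) :
    ∃ Q : Sylow p Spor.M11, (Q : Subgroup Spor.M11) = Subgroup.closure {g, h} := by
  classical
  set L := twoGenL (mcode g) (mcode h) n k
  have att : ∀ c ∈ L, ∃ x ∈ Subgroup.closure ({g, h} : Set Spor.M11), mcode x = c := by
    intro c hc
    simp only [L, twoGenL, List.mem_flatMap, List.mem_map, List.mem_range] at hc
    obtain ⟨i, -, j, -, rfl⟩ := hc
    exact ⟨g ^ i * h ^ j, mul_mem (pow_mem (Subgroup.subset_closure (by simp)) i)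
      (pow_mem (Subgroup.subset_closure (by simp)) j), by rw [mcode_mul, mcode_pow, mcode_pow]⟩
  have closed : ∀ x y : Spor.M11, mcode x ∈ L → mcode y ∈ L → mcode (x * y) ∈ L := fun x y hx hy => by
    have := List.all_eq_true.1 (List.all_eq_true.1 hmul _ hx) _ hy
    rw [mcode_mul]
    exact List.contains_iff_mem.1 this
  let S : Submonoid Spor.M11 :=
    { carrier := {x | mcode x ∈ L}
      one_mem' := by simpa [mcode_one] using hid
      mul_mem' := fun {x y} => closed x y }
  let H : Subgroup Spor.M11 :=
    { S with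
      inv_mem' := fun {x} hx => by
        have hfin : Finite Spor.M11 := inferInstance
        rw [(inv_eq_of_mul_eq_one_left (show x ^ (orderOf x - 1) * x = 1 by
          rw [← pow_succ, Nat.sub_add_cancel (orderOf_pos x), pow_orderOf_eq_one]))]
        exact S.pow_mem hx _ }
  have hHcl : H = Subgroup.closure {g, h} := by
    refine le_antisymm (fun x hx => ?_) ((Subgroup.closure_le _).2 ?_)
    · obtain ⟨y, hy, hxy⟩ := att _ hx
      rwa [← mcode_inj hxy]
    · rintro x (rfl | rfl)
      exacts [hg, hh]
  have hcard : Nat.card H = p ^ e := by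
    let φ : H → {c // c ∈ L} := fun x => ⟨mcode x, x.2⟩
    have hφ : Function.Bijective φ := ⟨fun x y hxy => Subtype.ext (mcode_inj (congrArg Subtype.val hxy)),
      fun ⟨c, hc⟩ => by
        obtain ⟨x, -, hx⟩ := att c hc
        exact ⟨⟨x, show mcode x ∈ L by rw [hx]; exact hc⟩, Subtype.ext hx⟩⟩
    rw [← hlen, Nat.card_congr (Equiv.ofBijective φ hφ), ← List.toFinset_card_of_nodup hnd,
      ← Fintype.card_coe, ← Nat.card_eq_fintype_card]
    exact Nat.card_congr (Equiv.subtypeEquivRight fun c => by simp)
  exact ⟨Sylow.ofCard H (by rw [hcard, card_M11, hfac]), hHcl⟩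

theorem multiplier_M11 : Cfsg.HasCyclicSchurMultiplier Spor.M11 1 := by
  have : Finite Spor.M11 := Nat.finite_of_card_ne_zero (by rw [card_M11]; norm_num)
  obtain ⟨a8, ha8⟩ := m11SchurGens_mem 233950865888990746377447415904013344 (by simp [m11SchurGens])
  obtain ⟨b2, hb2⟩ := m11SchurGens_mem 735500604421669808992593446508235808 (by simp [m11SchurGens])
  obtain ⟨x3, hx3⟩ := m11SchurGens_mem 487607080158395075740321133224921120 (by simp [m11SchurGens])
  obtain ⟨y3, hy3⟩ := m11SchurGens_mem 487655643029606470073469406179395616 (by simp [m11SchurGens])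
  obtain ⟨t, ht⟩ := m11SchurGens_mem 984355386066803413838770983050249280 (by simp [m11SchurGens])
  change mcode a8 = _ at ha8
  change mcode b2 = _ at hb2
  change mcode x3 = _ at hx3
  change mcode y3 = _ at hy3
  change mcode t = _ at ht
  refine SchurTrivial.hasCyclic_one fun Γ _ _ σ hs hc hd r hr hdvd => ?_
  have hfac : (7920 : ℕ).factorization 2 = 4 ∧ (7920 : ℕ).factorization 3 = 2 := by
    have h : (7920 : ℕ) = 2 ^ 4 * (3 ^ 2 * 55) := by norm_num
    rw [h, Nat.factorization_mul (by norm_num) (by norm_num), Nat.factorization_mul (by norm_num) (by norm_num),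
      Nat.Prime.factorization_pow Nat.prime_two, Nat.Prime.factorization_pow Nat.prime_three]
    simp [Nat.factorization_eq_zero_of_not_dvd (show ¬ 2 ∣ 55 by norm_num),
      Nat.factorization_eq_zero_of_not_dvd (show ¬ 3 ∣ 55 by norm_num)]
  haveI := Fact.mk hr
  by_cases h2 : r = 2
  · subst h2
    obtain ⟨Q, hQ⟩ := exists_sylow_twoGen (p := 2) (n := 8) (k := 2) (e := 4) a8 b2
      (by rw [ha8, hb2]; decide +kernel) (by rw [ha8, hb2]; decide +kernel)
      (by rw [ha8, hb2]; decide +kernel) (by rw [ha8, hb2]; decide +kernel) hfac.1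
      (by rw [ha8, hb2]; decide +kernel) (by rw [ha8, hb2]; decide +kernel)
    let a : (Q : Subgroup Spor.M11) := ⟨a8, hQ ▸ Subgroup.subset_closure (by simp)⟩
    let b : (Q : Subgroup Spor.M11) := ⟨b2, hQ ▸ Subgroup.subset_closure (by simp)⟩
    refine SchurTrivial.not_dvd_card_ker_of_semidihedral hs hc hd Q (a := a) (b := b) ?_ ?_ ?_ ?_
    · apply Subgroup.map_injective (Q : Subgroup Spor.M11).subtype_injective
      rw [MonoidHom.map_closure, ← MonoidHom.range_eq_map, Subgroup.range_subtype, Set.image_pair]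
      exact hQ.symm
    · rw [← Subgroup.orderOf_coe]
      show orderOf a8 = 8
      refine orderOf_eq_prime_pow (p := 2) (n := 2) (fun h => ?_) ?_
      · have := congrArg mcode h
        rw [mcode_pow, mcode_one, ha8] at this
        revert this
        decide +kernel
      · apply mcode_inj
        rw [mcode_pow, mcode_one, ha8]
        decide +kernel
    · refine Subtype.ext (mcode_inj ?_)
      show mcode (b2 * b2) = mcode 1
      rw [mcode_mul, mcode_one, hb2]
      decide +kernel
    · rw [mul_inv_eq_iff_eq_mul]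
      refine Subtype.ext (mcode_inj ?_)
      show mcode (b2 * a8) = mcode (a8 ^ 3 * b2)
      rw [mcode_mul, mcode_mul, mcode_pow, ha8, hb2]
      decide +kernel
  by_cases h3 : r = 3
  · subst h3
    obtain ⟨Q, hQ⟩ := exists_sylow_twoGen (p := 3) (n := 3) (k := 3) (e := 2) x3 y3
      (by rw [hx3, hy3]; decide +kernel) (by rw [hx3, hy3]; decide +kernel)
      (by rw [hx3, hy3]; decide +kernel) (by rw [hx3, hy3]; decide +kernel) hfac.2
      (by rw [hx3, hy3]; decide +kernel) (by rw [hx3, hy3]; decide +kernel)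
    refine SchurTrivial.not_dvd_card_ker_of_gens hs hc hd Q {x3, y3} hQ.le ?_
    have h12 : x3 * y3 = y3 * x3 := mcode_inj (by rw [mcode_mul, mcode_mul, hx3, hy3]; decide +kernel)
    have hpw : y3 ^ 3 = 1 := mcode_inj (by rw [mcode_pow, mcode_one, hy3]; decide +kernel)
    have t1 : t * x3 = y3 * t := mcode_inj (by rw [mcode_mul, mcode_mul, ht, hx3, hy3]; decide +kernel)
    have t2 : t * y3 = x3 * t := mcode_inj (by rw [mcode_mul, mcode_mul, ht, hx3, hy3]; decide +kernel)
    obtain ⟨T, hT⟩ := hs t
    intro X Y hX hY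
    simp only [Set.mem_insert_iff, Set.mem_singleton_iff] at hX hY
    have key : ∀ A B, σ A = x3 → σ B = y3 → A * B = B * A := fun A B hA hB =>
      commutatorElement_eq_one_iff_mul_comm.1 (SchurTrivial.comm_eq_one_of_swap hc (T := T)
        (by decide : Odd 3) (by rw [hA, hB, h12]) (by rw [hB, hpw]) (by rw [hT, hA, hB, t1])
        (by rw [hT, hA, hB, t2]))
    have same : σ X = σ Y → X * Y = Y * X := fun h =>
      commutatorElement_eq_one_iff_mul_comm.1
        ((SchurTrivial.comm_congr hc rfl h.symm).trans (commutatorElement_self X))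
    rcases hX with hX | hX <;> rcases hY with hY | hY
    exacts [same (hX.trans hY.symm), key X Y hX hY, (key Y X hY hX).symm, same (hX.trans hY.symm)]
  · refine SchurBound.not_dvd_card_ker_of_sq_not_dvd σ hs hc hd fun hsq => ?_
    rw [card_M11] at hsq
    have hr' : r ∣ 2 ^ 4 * (3 ^ 2 * (5 * 11)) := (dvd_pow_self r two_ne_zero).trans hsq
    have eq_of : ∀ k : ℕ, k.Prime → r ∣ k → r = k := fun k hk h => (Nat.prime_dvd_prime_iff_eq hr hk).1 h
    rcases (Nat.Prime.dvd_mul hr).1 hr' with h | h
    · exact h2 (eq_of 2 Nat.prime_two (hr.dvd_of_dvd_pow h))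
    rcases (Nat.Prime.dvd_mul hr).1 h with h | h
    · exact h3 (eq_of 3 Nat.prime_three (hr.dvd_of_dvd_pow h))
    rcases (Nat.Prime.dvd_mul hr).1 h with h | h
    · rw [eq_of 5 (by norm_num) h] at hsq; norm_num at hsq
    · rw [eq_of 11 (by norm_num) h] at hsq; norm_num at hsq

end CfsgLib.FusionCert.Mathieu
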