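import Cfsg.Agent.Lib.FusionCert.Main
import Cfsg.Agent.Lib.Golay.M24

/-!
Coded permutations of 24 points as members of the Mathieu groups, and the orders of those groups.
-/
set_option autoImplicit false

namespace CfsgLib.FusionCert.Mathieu

open Cfsg
open scoped Pointwise

/-- The points numbered by their bit positions. -/
def ptEquiv : GolayPt ≃ Fin 24 where
  toFun p := ⟨Golay.bit p, Golay.bit_lt p⟩
  invFun i := Golay.pt i
  left_inv := Golay.pt_bit
  right_inv i := Fin.ext (Golay.bit_pt i.2)

/-- A subgroup of permutations of the points, acting on `Fin 24`. -/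
def repr (M : Subgroup (Equiv.Perm GolayPt)) : M →* Equiv.Perm (Fin 24) :=
  (Equiv.permCongrHom ptEquiv).toMonoidHom.comp M.subtype

theorem repr_injective (M : Subgroup (Equiv.Perm GolayPt)) : Function.Injective (repr M) :=
  (Equiv.permCongrHom ptEquiv).injective.comp M.subtype_injective

/-- The code with eight bits for each point. -/
noncomputable def to8 (c : ℕ) : ℕ := Nat.rec 0 (fun j ih => ih + app c j * 256 ^ j) 24

/-- `c` codes a permutation that lies in `M24` and passes the extra test. -/
noncomputable def memCheck (extra : ℕ → ℕ → Bool) (c : ℕ) : Bool :=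
  (enc (app c) 24 == c) &&
  ((List.range 24).all fun j => decide (app c j < 24) && ((List.range 24).any fun i => app c i == j) &&
    (Golay.app (to8 c) j == app c j)) &&
  Golay.inM24 (to8 c) && extra c (to8 c)

theorem exists_of_memCheck {extra : ℕ → ℕ → Bool} {c : ℕ} (h : memCheck extra c = true) :
    ∃ σ ∈ M24, code (ptEquiv.permCongr σ) = c ∧ Golay.IsPermOf σ (to8 c) ∧ extra c (to8 c) = true := by
  simp only [memCheck, Bool.and_eq_true, List.all_eq_true, List.mem_range, decide_eq_true_eq,
    List.any_eq_true, beq_iff_eq] at h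
  obtain ⟨⟨⟨henc, hall⟩, hin⟩, hext⟩ := h
  let f : Fin 24 → Fin 24 := fun i => ⟨app c i, (hall i i.2).1.1⟩
  have hsur : Function.Surjective f := fun j => by
    obtain ⟨i, hi, hij⟩ := (hall j j.2).1.2
    exact ⟨⟨i, hi⟩, Fin.ext hij⟩
  let π : Equiv.Perm (Fin 24) := Equiv.ofBijective f (Finite.surjective_iff_bijective.1 hsur)
  let σ : Equiv.Perm GolayPt := ptEquiv.symm.permCongr π
  have hπ : ptEquiv.permCongr σ = π := by
    ext i
    simp [σ, Equiv.permCongr_apply]
  have hperm : Golay.IsPermOf σ (to8 c) := fun p => by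
    rw [(hall _ (Golay.bit_lt p)).2]
    have h1 : π (ptEquiv p) = ptEquiv (σ p) := by simp [σ, Equiv.permCongr_apply]
    exact congrArg Fin.val h1
  refine ⟨σ, Golay.mem_M24_of_inM24 hperm hin, ?_, hperm, hext⟩
  rw [hπ]
  conv_rhs => rw [← henc]
  exact enc_congr fun i hi => by rw [dif_pos hi]; rfl

/-- Membership with extra conditions. -/
theorem exists_code_of_memCheck {M : Subgroup (Equiv.Perm GolayPt)} {extra : ℕ → ℕ → Bool}
    (hM : ∀ (σ : Equiv.Perm GolayPt) (c : ℕ), σ ∈ M24 → Golay.IsPermOf σ (to8 c) →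
      extra c (to8 c) = true → σ ∈ M)
    {l : List ℕ} (hl : l.all (memCheck extra) = true) :
    ∀ c ∈ l, ∃ g : M, code (repr M g) = c := fun c hc => by
  obtain ⟨σ, hσ, hcode, hp, he⟩ := exists_of_memCheck (List.all_eq_true.1 hl c hc)
  exact ⟨⟨σ, hM σ c hσ hp he⟩, hcode⟩

/-- The coded permutation fixes the point at a bit position. -/
noncomputable def fixes (j : ℕ) (c8 : ℕ) : Bool := Golay.app c8 j == j

theorem fixes_spec {σ : Equiv.Perm GolayPt} {c8 : ℕ} (h : Golay.IsPermOf σ c8) {p : GolayPt}
    (hf : fixes (Golay.bit p) c8 = true) : σ ∈ MulAction.stabilizer (Equiv.Perm GolayPt) p := by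
  rw [fixes, beq_iff_eq, h p] at hf
  exact MulAction.mem_stabilizer_iff.2 (Golay.bit_injective hf)

/-- The mask of the dodecad of squares. -/
def squareMask : ℕ := 340831

theorem toSet_squareMask : Golay.toSet squareMask = Spor.squareDodecad := by
  decide +kernel

/-- The coded permutation preserves the dodecad of squares. -/
noncomputable def fixesSquares (c8 : ℕ) : Bool := Golay.pull c8 squareMask == squareMask

theorem fixesSquares_spec {σ : Equiv.Perm GolayPt} {c8 : ℕ} (h : Golay.IsPermOf σ c8)
    (hf : fixesSquares c8 = true) :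
    σ ∈ MulAction.stabilizer (Equiv.Perm GolayPt) Spor.squareDodecad := by
  rw [fixesSquares, beq_iff_eq] at hf
  have h2 := Golay.toSet_pull h squareMask
  rw [hf, toSet_squareMask, eq_inv_smul_iff] at h2
  exact MulAction.mem_stabilizer_iff.2 h2

theorem card_inf_stabilizer {G α : Type*} [Group G] [MulAction G α] (H : Subgroup G) (a : α) :
    Nat.card ↥(H ⊓ MulAction.stabilizer G a) * (MulAction.orbit H a).ncard = Nat.card H := by
  have h : MulAction.stabilizer H a = (H ⊓ MulAction.stabilizer G a).subgroupOf H := by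
    ext g
    rw [Subgroup.mem_subgroupOf, Subgroup.mem_inf, MulAction.mem_stabilizer_iff,
      MulAction.mem_stabilizer_iff]
    exact ⟨fun hg => ⟨g.2, hg⟩, fun hg => hg.2⟩
  rw [← MulAction.index_stabilizer, ← Nat.card_congr (Subgroup.subgroupOfEquivOfLe
    (inf_le_left : H ⊓ MulAction.stabilizer G a ≤ H)).toEquiv, ← h, Subgroup.card_mul_index]

theorem M23_eq : Spor.M23 = Golay.fixPts M24 [none] := by
  rw [Golay.fixPts_cons, Golay.fixPts_nil]; rfl

theorem card_M23 : Nat.card Spor.M23 = 10200960 := by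
  rw [M23_eq]; exact Golay.card_fix1

theorem card_M22 : Nat.card Spor.M22 = 443520 := by
  rw [Spor.M22, M23_eq, ← Golay.fixPts_cons]; exact Golay.card_fix2

theorem squareDodecad_mem : Spor.squareDodecad ∈ dodecads := by
  rw [Golay.mem_dodecads]
  refine ⟨Golay.support₂_mem_supports.2 (Submodule.subset_span (Or.inl ⟨0, rfl⟩)), ?_⟩
  decide +kernel

theorem card_M12 : Nat.card Spor.M12 = 95040 := by
  have h := card_inf_stabilizer M24 Spor.squareDodecad
  have horb : MulAction.orbit M24 Spor.squareDodecad = dodecads := by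
    ext d
    refine ⟨?_, fun hd => ?_⟩
    · rintro ⟨g, rfl⟩
      exact (Golay.M24_smul_mem_dodecads g.2).2 squareDodecad_mem
    · obtain ⟨g, hg, hgd⟩ := Golay.exists_smul_dodecad squareDodecad_mem hd
      exact ⟨⟨g, hg⟩, hgd⟩
  rw [horb, Golay.ncard_dodecads, Golay.card_M24] at h
  exact Nat.eq_of_mul_eq_mul_right (show 0 < 2576 by norm_num) (h.trans (by norm_num))

theorem M12_apply_mem {σ : Equiv.Perm GolayPt} (hσ : σ ∈ Spor.M12) {p : GolayPt}
    (hp : p ∈ Spor.squareDodecad) : σ p ∈ Spor.squareDodecad := by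
  have h := MulAction.mem_stabilizer_iff.1 (Subgroup.mem_inf.1 hσ).2
  rw [← h]
  exact Finset.smul_mem_smul_finset (a := σ) hp

theorem card_M11_of_trans {l : List ℕ} (hl : l.all (memCheck fun _ c8 => fixesSquares c8) = true)
    (hcov : ∀ p ∈ Spor.squareDodecad, ∃ c ∈ l, app c 0 = Golay.bit p) :
    Nat.card Spor.M11 = 7920 := by
  have h := card_inf_stabilizer Spor.M12 (some 0 : GolayPt)
  have hzero : (some 0 : GolayPt) ∈ Spor.squareDodecad := by decide +kernel
  have horb : MulAction.orbit Spor.M12 (some 0 : GolayPt) = (Spor.squareDodecad : Set GolayPt) := by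
    ext p
    refine ⟨?_, fun hp => ?_⟩
    · rintro ⟨g, rfl⟩
      exact M12_apply_mem g.2 hzero
    · obtain ⟨c, hc, hcp⟩ := hcov p hp
      obtain ⟨g, hg⟩ := exists_code_of_memCheck (M := Spor.M12)
        (fun σ c' hσ hperm he => Subgroup.mem_inf.2 ⟨hσ, fixesSquares_spec hperm he⟩) hl c hc
      refine ⟨g, Golay.bit_injective ?_⟩
      rw [← hcp, ← hg]
      show _ = app (code (repr Spor.M12 g)) ((0 : Fin 24) : ℕ)
      rw [app_code]
      rfl
  have hcard : Spor.squareDodecad.card = 12 := (Golay.mem_dodecads.1 squareDodecad_mem).2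
  rw [horb, Set.ncard_coe_finset, hcard, card_M12] at h
  exact Nat.eq_of_mul_eq_mul_right (show 0 < 12 by norm_num) (h.trans (by norm_num))

end CfsgLib.FusionCert.Mathieu
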