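import Cfsg.Agent.Lib.FusionCert.Main

/-! Certificate data for the 2-fusion system of M12. -/
set_option autoImplicit false

namespace CfsgLib.FusionCert.Mathieu

def m12Elems0 : List ℕ :=
  [984818244535754528103549039458486304, 970531819526550031117983620406741024,
    808997782816701570676445371466909728, 796025918939784314627536738561984544,
    818089387402206929403362294540371014, 803818179688714225105828877546325062,
    975727909571397303000888539288568902, 962738289156471987015435032749048902,
    969958826742993894265839954570609728, 984246521836818460956491656630404160,
    796590033492984268806335733761967168, 809578383745993820496847424931136576,
    804382271928338230140192933745362982, 818652209555699707457277357675808806,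
    962183075147128606791182314138634278, 975156209187623900136862138564511782,
    320115590329072388348402571430434817, 305844377127812113134607728153761793,
    892731809389884668230154444714940417, 879742198403749179864534529199216641,
    901822146323997371566208591551627458, 887535726804071745733689455157739714,
    311023987714909723361056493777846466, 298052114407539508916744728716148930,
    887377253021764786599905975016200194, 901647201007958193517748225885640706,
    298218191387902548518539637811451906, 311191329832892820941505430490093570,
    305993950364675783176093313532002497, 320281635101179434578238902529982657,
    879585021968904987219256010332307649, 892573367815758144604111047104037057,
    891440084380668137666183104591693856, 899214583888558003150069357295700000,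
    313626468097149398198142802389895200, 304527279934878073638008567181674528,
    317529576833142594988395433926329414, 309727185764898930010969265803494470,
    886238901430532288637700683916182598, 895312752272679799015338422043149382,
    313783668072863004030991157293548608, 304711093576664614595828900737582144,
    899044715214059085067630235209565248, 891268939437666908957953538218263616,
    886071582852134120561551409627531302, 895172047361261260428590622506027046,
    309881835644587343701112949677754406, 317682950443270887961148823877847078,
    815503375026309021766123906388989953, 807700987205769156259421674433288193,
    969235004743352048256165260620797953, 978308839894095481318508452051949569,
    974436178224463006899986403391832258, 982210680978998575837900650176577730,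
    811600275760322824626702851807641794, 802501071905741300235629383823982786,
    803076597429393267055247079939512322, 812177060238317071414711047008360450,
    973846710206456739090575925928269826, 981647838995358630039685236323915778,
    977748550479489607411889841142038721, 968675974283995148682929594848248001,
    816049721946636152546816387695378625, 808273960159404798958583469809336513]

/-- The certificate for M12. -/
def m12Cert : SimpleCert where
  hs := [970531819526550031117983620406741024, 808997782816701570676445371466909728,
    818089387402206929403362294540371014, 969958826742993894265839954570609728,
    320115590329072388348402571430434817, 891440084380668137666183104591693856]
  L := m12Elems0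
  m := 3
  sqExpr := [(0, 2), (0, 40), (0, 24)]
  keys := [[2400096, 2400128, 2400256],
    [800032, 2400064, 2400096, 2400128, 2400256],
    [400032, 800032, 800064, 2400000, 2400064, 2400096, 2400128, 2400256]]
  W := [16, 16, 16, 8, 8, 8, 16, 16, 8, 8, 8, 8,
    8, 8, 8, 8, 8, 8, 8, 16, 8, 16, 8, 16]
  z := 1
  conjs := [962345442534683799911330068954153388, 316312398469899091320930473171389481,
    920794301491012367135481558432489764, 733864894318129646631533679852341769]
  slp := [(true, 1, 0, 9), (true, 1, 1, 12), (true, 1, 2, 20), (false, 20, 12, 28), (true, 28, 3, 35),
    (false, 12, 35, 46), (false, 46, 12, 33), (false, 33, 35, 2), (false, 28, 28, 4), (false, 1, 9, 8),
    (false, 12, 28, 16), (false, 1, 33, 32)]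

end CfsgLib.FusionCert.Mathieu
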