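import Cfsg.Agent.Lib.FusionCert.Mathieu.Common
import Cfsg.Agent.Lib.FusionCert.Mathieu.M12Data

/-! The 2-fusion system of M12 is simple. -/
set_option autoImplicit false

namespace CfsgLib.FusionCert.Mathieu

open Cfsg

theorem m12_check : m12Cert.check = true := by
  decide +kernel

theorem m12_length : m12Cert.hs.length = 6 := rfl

theorem m12_mem : ∀ c ∈ m12Cert.hs ++ m12Cert.conjs, ∃ g : Spor.M12, code (repr Spor.M12 g) = c :=
  exists_code_of_memCheck (extra := fun _ c8 => fixesSquares c8)
    (fun _ _ hσ hp he => Subgroup.mem_inf.2 ⟨hσ, fixesSquares_spec hp he⟩)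
    (by decide +kernel)

theorem m12_isSimple (S : Sylow 2 Spor.M12) :
    (groupFusionSystem (S : Subgroup Spor.M12)).IsSimple 2 := by
  refine SimpleCert.isSimple m12Cert (repr Spor.M12) (repr_injective Spor.M12) m12_check m12_mem
    (o := 1485) ?_ (by norm_num) (by rw [m12_length]; norm_num) S
  rw [m12_length, card_M12]
  norm_num

end CfsgLib.FusionCert.Mathieu
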