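import Cfsg.Agent.Lib.FusionCert.Mathieu.Common
import Cfsg.Agent.Lib.FusionCert.Mathieu.M22Data

/-! The 2-fusion system of M22 is simple. -/
set_option autoImplicit false

namespace CfsgLib.FusionCert.Mathieu

open Cfsg

theorem m22_check : m22Cert.check = true := by
  decide +kernel

theorem m22_length : m22Cert.hs.length = 7 := rfl

theorem m22_mem : ∀ c ∈ m22Cert.hs ++ m22Cert.conjs, ∃ g : Spor.M22, code (repr Spor.M22 g) = c :=
  exists_code_of_memCheck (extra := fun _ c8 => fixes 23 c8 && fixes 0 c8)
    (fun _ _ hσ hp he => Subgroup.mem_inf.2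
      ⟨Subgroup.mem_inf.2 ⟨hσ, fixes_spec (p := none) hp (Bool.and_eq_true_iff.1 he).1⟩,
        fixes_spec (p := some 0) hp (Bool.and_eq_true_iff.1 he).2⟩)
    (by decide +kernel)

theorem m22_isSimple (S : Sylow 2 Spor.M22) :
    (groupFusionSystem (S : Subgroup Spor.M22)).IsSimple 2 := by
  refine SimpleCert.isSimple m22Cert (repr Spor.M22) (repr_injective Spor.M22) m22_check m22_mem
    (o := 3465) ?_ (by norm_num) (by rw [m22_length]; norm_num) S
  rw [m22_length, card_M22]
  norm_num

end CfsgLib.FusionCert.Mathieu
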