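import Cfsg.Agent.Lib.FusionCert.Mathieu.Common
import Cfsg.Agent.Lib.FusionCert.Mathieu.M23Data

/-! The 2-fusion system of M23 is simple. -/
set_option autoImplicit false

namespace CfsgLib.FusionCert.Mathieu

open Cfsg

theorem m23_check : m23Cert.check = true := by
  decide +kernel

theorem m23_length : m23Cert.hs.length = 7 := rfl

theorem m23_mem : ∀ c ∈ m23Cert.hs ++ m23Cert.conjs, ∃ g : Spor.M23, code (repr Spor.M23 g) = c :=
  exists_code_of_memCheck (extra := fun _ c8 => fixes 23 c8)
    (fun _ _ hσ hp he => Subgroup.mem_inf.2 ⟨hσ, fixes_spec (p := none) hp he⟩)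
    (by decide +kernel)

theorem m23_isSimple (S : Sylow 2 Spor.M23) :
    (groupFusionSystem (S : Subgroup Spor.M23)).IsSimple 2 := by
  refine SimpleCert.isSimple m23Cert (repr Spor.M23) (repr_injective Spor.M23) m23_check m23_mem
    (o := 79695) ?_ (by norm_num) (by rw [m23_length]; norm_num) S
  rw [m23_length, card_M23]
  norm_num

end CfsgLib.FusionCert.Mathieu
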