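import Cfsg.Agent.Lib.FusionCert.Mathieu.Common
import Cfsg.Agent.Lib.FusionCert.Mathieu.M24Data

/-! The 2-fusion system of M24 is simple. -/
set_option autoImplicit false

namespace CfsgLib.FusionCert.Mathieu

open Cfsg

theorem m24_check : m24Cert.check = true := by
  decide +kernel

theorem m24_length : m24Cert.hs.length = 10 := rfl

theorem m24_mem : ∀ c ∈ m24Cert.hs ++ m24Cert.conjs, ∃ g : M24, code (repr M24 g) = c :=
  exists_code_of_memCheck (extra := fun _ c8 => true)
    (fun _ _ hσ _ _ => hσ)
    (by decide +kernel)

theorem m24_isSimple (S : Sylow 2 M24) :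
    (groupFusionSystem (S : Subgroup M24)).IsSimple 2 := by
  refine SimpleCert.isSimple m24Cert (repr M24) (repr_injective M24) m24_check m24_mem
    (o := 239085) ?_ (by norm_num) (by rw [m24_length]; norm_num) S
  rw [m24_length, Golay.card_M24]
  norm_num

end CfsgLib.FusionCert.Mathieu
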